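import Groth.Agent.Lsc5.Main
import Mathlib.AlgebraicGeometry.Morphisms.FlatRank
import Mathlib.AlgebraicGeometry.ZariskisMainTheorem
import Mathlib.AlgebraicGeometry.Morphisms.UniversallyOpen

/-!
# Separated quasi-finite flat morphisms of generic degree at most one
-/

set_option autoImplicit false
set_option linter.style.haveILetI false

universe u

open CategoryTheory CategoryTheory.Limits AlgebraicGeometry

namespace Groth.Agent.QFOpen

/-- Every point has a maximal generization. -/
theorem exists_maximal_generization {S : Scheme.{u}} (s : S) :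
    ∃ η : S, η ⤳ s ∧ ∀ t : S, t ⤳ η → t = η := by
  have hZ : IsIrreducible (irreducibleComponent s) := isIrreducible_irreducibleComponent
  let η := hZ.genericPoint
  have hη : closure ({η} : Set S) = irreducibleComponent s := by
    rw [hZ.genericPoint_closure_eq, isClosed_irreducibleComponent.closure_eq]
  refine ⟨η, specializes_iff_mem_closure.2 (hη ▸ mem_irreducibleComponent), fun t ht => ?_⟩
  have hle : irreducibleComponent s ≤ closure ({t} : Set S) := by
    rw [← hη]
    exact closure_minimal (Set.singleton_subset_iff.2 (specializes_iff_mem_closure.1 ht)) isClosed_closure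
  have heq : closure ({t} : Set S) = irreducibleComponent s :=
    eq_irreducibleComponent isIrreducible_singleton.closure.isPreirreducible hle
  exact ((specializes_iff_mem_closure.2 (show t ∈ closure ({η} : Set S) by
    rw [hη, ← heq]; exact subset_closure rfl)).antisymm ht).eq.symm

variable {T S : Scheme.{u}} (g : T ⟶ S)

/-- A point whose fibre is trivial has at most one geometric point. -/
theorem nGeomConnComp_le_one (η : S)
    (h : IsEmpty ↑(pullback g (S.fromSpecResidueField η)) ∨ IsIso (pullback.snd g (S.fromSpecResidueField η))) :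
    MoreMor.nGeomConnComp g η ≤ 1 := by
  let k := Spec.map (CommRingCat.ofHom (algebraMap (S.residueField η) (SeparableClosure (S.residueField η))))
  have hsub : Subsingleton ↥(MoreMor.geomFiber g η) := by
    rcases h with h | h
    · haveI : IsEmpty ↥(g.fiber η) := h
      haveI : IsEmpty ↥(pullback (g.fiberToSpecResidueField η) k) :=
        Function.isEmpty (pullback.fst (g.fiberToSpecResidueField η) k)
      exact inferInstanceAs (Subsingleton ↥(pullback (g.fiberToSpecResidueField η) k))
    · haveI : IsIso (g.fiberToSpecResidueField η) := h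
      let e := Scheme.homeoOfIso (asIso (pullback.snd (g.fiberToSpecResidueField η) k))
      exact e.toEquiv.subsingleton
  haveI := hsub
  haveI : Subsingleton (_root_.ConnectedComponents ↥(MoreMor.geomFiber g η)) :=
    _root_.ConnectedComponents.surjective_coe.subsingleton
  exact (ENat.card_le_one_iff_subsingleton _).2 inferInstance

/-- A point in the image has a geometric point above it. -/
theorem one_le_nGeomConnComp (t : T) : 1 ≤ MoreMor.nGeomConnComp g (g t) := by
  have h := Lsc5.le_nGeomConnComp g (g t) (I := PUnit.{1}) (fun _ => Set.univ) (fun _ => isClopen_univ)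
    (fun i j hij => (hij (Subsingleton.elim i j)).elim) (fun _ => ⟨t, trivial, rfl⟩)
  simpa using h

variable [LocallyQuasiFinite g] [LocallyOfFinitePresentation g] [QuasiCompact g] [IsSeparated g] [Flat g]
  (hgen : ∀ s : S, (∀ t : S, t ⤳ s → t = s) →
    IsEmpty ↑(pullback g (S.fromSpecResidueField s)) ∨ IsIso (pullback.snd g (S.fromSpecResidueField s)))

include hgen in
/-- Every fibre has at most one geometric point. -/
theorem nGeomConnComp_le_one_all (s : S) : MoreMor.nGeomConnComp g s ≤ 1 := by
  by_contra hlt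
  obtain ⟨V, hV, h⟩ := Lsc5.lsc_at g s (fun x _ => Lsc5.isUnivOpenAt_of_universallyOpen g x)
  obtain ⟨η, hηs, hη⟩ := exists_maximal_generization s
  obtain ⟨W, hWV, hW, hsW⟩ := mem_nhds_iff.1 hV
  exact hlt ((h η (hWV (hηs.mem_open hW hsW))).trans (nGeomConnComp_le_one g η (hgen η hη)))

include hgen in
/-- Near every point of the image the morphism is an isomorphism. -/
theorem exists_isIso_nhd (x : T) : ∃ U : S.Opens, g x ∈ U ∧ IsIso (g ∣_ U) := by
  obtain ⟨V, hV, h⟩ := Lsc5.lsc_at g (g x) (fun x _ => Lsc5.isUnivOpenAt_of_universallyOpen g x)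
  obtain ⟨U₀, hU₀, hprop⟩ := Lsc5.proper_nhd g (g x) (fun x _ => Lsc5.isUnivOpenAt_of_universallyOpen g x)
    ⟨V, hV, fun z hz => le_antisymm
      ((nGeomConnComp_le_one_all g hgen z).trans (one_le_nGeomConnComp g x)) (h z hz)⟩
  haveI := hprop
  haveI : LocallyQuasiFinite (g ∣_ U₀) :=
    MorphismProperty.of_isPullback (isPullback_morphismRestrict g U₀).flip inferInstance
  haveI : LocallyOfFinitePresentation (g ∣_ U₀) :=
    MorphismProperty.of_isPullback (isPullback_morphismRestrict g U₀).flip inferInstance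
  haveI : Flat (g ∣_ U₀) := MorphismProperty.of_isPullback (isPullback_morphismRestrict g U₀).flip inferInstance
  haveI : IsFinite (g ∣_ U₀) := IsFinite.of_isProper_of_locallyQuasiFinite _
  let g₀ := g ∣_ U₀
  have hone : g₀.finrank ⟨g x, hU₀⟩ = 1 := by
    obtain ⟨η, hηs, hη⟩ := exists_maximal_generization (g x)
    have hηU : η ∈ U₀ := hηs.mem_open U₀.2 hU₀
    have hspec : (⟨η, hηU⟩ : U₀.toScheme) ⤳ ⟨g x, hU₀⟩ := (subtype_specializes_iff _ _).2 hηs
    have hc := (Scheme.Hom.isLocallyConstant_finrank g₀).apply_eq_of_isPreconnected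
      (isPreconnected_singleton.closure) (show (⟨g x, hU₀⟩ : U₀.toScheme) ∈ closure {⟨η, hηU⟩} from
        specializes_iff_mem_closure.1 hspec) (subset_closure rfl)
    rw [hc]
    have hne : 1 ≤ MoreMor.nGeomConnComp g η := by
      obtain ⟨t, ht, rfl⟩ := Flat.generalizingMap g hηs
      exact one_le_nGeomConnComp g t
    rcases hgen η hη with he | hi
    · exfalso
      haveI : IsEmpty ↥(g.fiber η) := he
      haveI : IsEmpty ↥(MoreMor.geomFiber g η) := Function.isEmpty (pullback.fst (g.fiberToSpecResidueField η) _)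
      haveI : IsEmpty (_root_.ConnectedComponents ↥(MoreMor.geomFiber g η)) :=
        _root_.ConnectedComponents.surjective_coe.isEmpty
      rw [MoreMor.nGeomConnComp, ENat.card_eq_zero_iff_empty _ |>.2 inferInstance] at hne
      exact absurd hne (by simp)
    · obtain ⟨p, hp⟩ : ∃ p : Spec (S.residueField η) ⟶ U₀.toScheme, p ≫ U₀.ι = S.fromSpecResidueField η :=
        ⟨IsOpenImmersion.lift U₀.ι (S.fromSpecResidueField η) (by
          rw [Scheme.range_fromSpecResidueField, Scheme.Opens.range_ι]
          exact Set.singleton_subset_iff.2 hηU), IsOpenImmersion.lift_fac _ _ _⟩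
      let z : ↥(Spec (S.residueField η)) := default
      have hz : p z = ⟨η, hηU⟩ := U₀.ι.isOpenEmbedding.injective (by
        rw [← Scheme.Hom.comp_apply, hp]
        exact Scheme.fromSpecResidueField_apply _ _)
      have hsq := (IsPullback.of_hasPullback g₀ p).paste_horiz (isPullback_morphismRestrict g U₀).flip
      rw [hp] at hsq
      haveI : IsIso (pullback.snd g₀ p) := by
        rw [← hsq.isoPullback_hom_snd]
        exact IsIso.comp_isIso' inferInstance hi
      rw [← hz, ← Scheme.Hom.finrank_pullback_snd, Scheme.Hom.finrank_eq_one_of_isIso, Pi.one_apply]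
  have hopen := (Scheme.Hom.isLocallyConstant_finrank g₀).isOpen_fiber 1
  let U₁ : U₀.toScheme.Opens := ⟨_, hopen⟩
  refine ⟨U₀.ι ''ᵁ U₁, ⟨⟨g x, hU₀⟩, hone, rfl⟩, ?_⟩
  haveI : IsFinite (g₀ ∣_ U₁) := MorphismProperty.of_isPullback (isPullback_morphismRestrict g₀ U₁).flip inferInstance
  haveI : Flat (g₀ ∣_ U₁) := MorphismProperty.of_isPullback (isPullback_morphismRestrict g₀ U₁).flip inferInstance
  haveI : IsIso (g₀ ∣_ U₁) := by
    rw [Scheme.Hom.isIso_iff_finrank_eq]
    funext y
    rw [Scheme.Hom.finrank_of_isPullback _ _ _ _ (isPullback_morphismRestrict g₀ U₁).flip]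
    exact y.2
  exact ((MorphismProperty.isomorphisms Scheme).arrow_mk_iso_iff (morphismRestrictRestrict g U₀ U₁)).1 ‹IsIso (g₀ ∣_ U₁)›

include hgen in
/-- A separated quasi-finite flat morphism of generic degree at most one is an open immersion. -/
theorem isOpenImmersion_of_generic : IsOpenImmersion g := by
  choose U hU hiso using exists_isIso_nhd g hgen
  let W : S.Opens := ⨆ x, U x
  have hW : g ⁻¹ᵁ W = ⊤ := top_le_iff.1 fun x _ => TopologicalSpace.Opens.mem_iSup.2 ⟨x, hU x⟩
  haveI : IsIso (g ∣_ W) := by
    refine (IsZariskiLocalAtTarget.iff_of_iSup_eq_top (P := MorphismProperty.isomorphisms Scheme)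
      (fun x : T => W.ι ⁻¹ᵁ U x) ?_).2 fun x => ?_
    · refine top_le_iff.1 fun w _ => ?_
      obtain ⟨x, hx⟩ := TopologicalSpace.Opens.mem_iSup.1 w.2
      exact TopologicalSpace.Opens.mem_iSup.2 ⟨x, hx⟩
    · refine ((MorphismProperty.isomorphisms Scheme).arrow_mk_iso_iff
        (morphismRestrictRestrict g W (W.ι ⁻¹ᵁ U x) ≪≫ morphismRestrictEq g ?_)).2 (hiso x)
      rw [W.ι.image_preimage_eq_opensRange_inf, Scheme.Opens.opensRange_ι]
      exact inf_eq_right.2 (le_iSup U x)
  haveI : IsIso (g ⁻¹ᵁ W).ι := by rw [hW]; exact ⟨⟨T.topIso.inv, T.topIso.hom_inv_id, T.topIso.inv_hom_id⟩⟩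
  have hfac : g = inv (g ⁻¹ᵁ W).ι ≫ g ∣_ W ≫ W.ι := by
    rw [morphismRestrict_ι, IsIso.inv_hom_id_assoc]
  rw [hfac]
  infer_instance

end Groth.Agent.QFOpen
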